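import Mathlib
import Cfsg.Agent.H21.SN.Sec

/-!
# Order three and two conjugates: the reduction without `L₃(3)`, `U₃(3)`, `PSp₄(3)` (helper21, S3831)

`reduction` : `G` finite without sections `L₃(3)`, `U₃(3)`, `PSp₄(3)`, `x ∈ G` of prime order, any two conjugates of `x`
generate a solvable subgroup: `x` lies in the radical.
-/

set_option autoImplicit false
set_option linter.unusedSectionVars false

namespace Cfsg.Agent.H21.SN

open Cfsg Subgroup Cfsg.Agent.SignalizersComponents.ComponentExists Cfsg.Agent.H459.Rad
open Cfsg.Agent.SignalizersComponents.Components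
open Cfsg.Agent.H459.Reduce hiding reduction
open scoped commutatorElement

universe u

/-- **The reduction.** -/
theorem reduction {k p : ℕ} [Fact p.Prime] (hk : 2 ≤ k) (hkp : 3 ≤ p ∨ 3 ≤ k)
    (core : ∀ (K : Type u) [Group K] [Finite K] [IsSimpleGroup K] (x : MulAut K), ¬ IsMulCommutative K →
      orderOf x = p → RC x → PS k x → IsS3 K)
    (G : Type u) [Group G] [Finite G] (hG : NoS3 G) (x : G) (hx : orderOf x = p) (h : Q k x) :
    x ∈ solvableRadical G := by
  induction hn : Nat.card G using Nat.strong_induction_on generalizing G with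
  | _ n ih =>
    subst hn
    by_contra hxR
    have hp : p.Prime := Fact.out
    have hR : solvableRadical G = ⊥ := by
      by_contra hne
      have hRn := rad_normal G
      set R := solvableRadical G with hRdef
      have hx1 : QuotientGroup.mk' R x ≠ 1 := fun h1 => hxR ((QuotientGroup.eq_one_iff x).1 h1)
      have hox : orderOf (QuotientGroup.mk' R x) = p := by
        have h1 : orderOf (QuotientGroup.mk' R x) ∣ p := hx ▸ orderOf_map_dvd _ x
        rcases (Nat.dvd_prime hp).1 h1 with h2 | h2
        · exact absurd (orderOf_eq_one_iff.1 h2) hx1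
        · exact h2
      have hcard : Nat.card (G ⧸ R) < Nat.card G := by
        have h3 := Subgroup.card_eq_card_quotient_mul_card_subgroup R
        have h4 : 1 < Nat.card R := (Subgroup.one_lt_card_iff_ne_bot R).mpr hne
        have h5 : 0 < Nat.card (G ⧸ R) := Nat.card_pos
        nlinarith
      have h1 := ih _ hcard (G ⧸ R) (hG.of_surjective _ (QuotientGroup.mk'_surjective R)) (QuotientGroup.mk' R x) hox
        (h.map (QuotientGroup.mk'_surjective R)) rfl
      have h2 : solvableRadical (G ⧸ R) = ⊥ := rad_quotient
      rw [h2, mem_bot] at h1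
      exact hx1 h1
    have hsub : ∀ H : Subgroup G, H ≠ ⊤ → x ∈ H → x ∈ radIn H := by
      intro H hH hxH
      have hcard : Nat.card H < Nat.card G :=
        lt_of_le_of_ne (Subgroup.card_le_card_group H) fun h => hH (Subgroup.eq_top_of_card_eq H h)
      have h1 := ih _ hcard H (hG.subgroup H) ⟨x, hxH⟩ (by rw [Subgroup.orderOf_mk]; exact hx) (Q.subtype (x := ⟨x, hxH⟩) h) rfl
      exact mem_radIn_coe.2 h1
    have hx1 : x ≠ 1 := by
      rintro rfl
      rw [orderOf_one] at hx
      exact hp.one_lt.ne hx
    obtain ⟨L, hL, l0, hl0, hne0⟩ := exists_component hR hx1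
    by_cases hm : x ∈ normalizer (L : Set G)
    swap
    · exact (moved hk hkp hR (by rw [← hx]; exact pow_orderOf_eq_one x) hL hm h).elim
    have hsimp := component_simple hR hL
    set N := normalizer (L : Set G) with hN
    set ρ : N →* MulAut L := L.normalizerMonoidHom with hρ
    have hLN : L ≤ N := le_normalizer
    have hρL : ∀ l : L, ρ ⟨l, hLN l.2⟩ = MulAut.conj l := by
      intro l
      ext y
      rfl
    set y : MulAut L := ρ ⟨x, hm⟩ with hy
    have hyl : ∀ l : L, ((y l : L) : G) = x * l * x⁻¹ := fun l => rfl
    refine (hG.not_surj L (MonoidHom.id L) (fun l => ⟨l, rfl⟩))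
      (core L y (quasisimple_not_isMulCommutative hL.2) ?_ ?_ ?_)
    · have h1 : orderOf y ∣ p := by
        have h2 : orderOf y ∣ orderOf (⟨x, hm⟩ : N) := orderOf_map_dvd ρ _
        rwa [Subgroup.orderOf_mk, hx] at h2
      rcases (Nat.dvd_prime hp).1 h1 with h2 | h2
      · exfalso
        rw [orderOf_eq_one_iff] at h2
        apply hne0
        have h3 : ((y ⟨l0, hl0⟩ : L) : G) = l0 := by rw [h2]; rfl
        rw [hyl] at h3
        calc x * l0 = (x * l0 * x⁻¹) * x := by group
          _ = l0 * x := by rw [h3]
      · exact h2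
    · -- `RC`
      intro M hM hMx m hm'
      set M' : Subgroup G := M.map L.subtype with hM'
      set H : Subgroup G := M' ⊔ zpowers x with hH
      have hxH : x ∈ H := mem_sup_right (mem_zpowers x)
      have hM'x : ∀ g ∈ M', x * g * x⁻¹ ∈ M' := by
        rintro _ ⟨l, hl, rfl⟩
        exact ⟨y l, hMx l hl, hyl l⟩
      have hHn : H ≤ normalizer (M' : Set G) := by
        refine sup_le le_normalizer ?_
        rw [zpowers_le]
        refine mem_normalizer_of_cj ?_
        have hle : cj x M' ≤ M' := by
          rintro _ ⟨g, hg, rfl⟩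
          exact hM'x g hg
        exact Subgroup.eq_of_le_of_card_ge hle (le_of_eq (Subgroup.card_map_of_injective
          (K := M') (MulAut.conj x).injective).symm)
      have hHt : H ≠ ⊤ := by
        intro hHt
        have hMn : M'.Normal := by
          rw [hHt] at hHn
          exact Subgroup.normalizer_eq_top_iff.1 (top_le_iff.1 hHn)
        have hMn' : M.Normal := by
          refine ⟨fun n hn g => ?_⟩
          have h1 := hMn.conj_mem _ (show (n : G) ∈ M' from ⟨n, hn, rfl⟩) g
          obtain ⟨n', hn', h2⟩ := h1
          have h3 : n' = g * n * g⁻¹ := Subtype.ext h2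
          rwa [← h3]
        rcases hMn'.eq_bot_or_eq_top with h1 | h1
        · have h2 : (⊤ : Subgroup G) = zpowers x := by
            rw [← hHt, hH, hM', h1, Subgroup.map_bot, bot_sup_eq]
          have h3 : Group.IsSolvable G := by
            have h4 : ∀ a b : G, a * b = b * a := by
              intro a b
              obtain ⟨i, rfl⟩ := mem_zpowers_iff.1 (show a ∈ zpowers x by rw [← h2]; exact mem_top _)
              obtain ⟨j, rfl⟩ := mem_zpowers_iff.1 (show b ∈ zpowers x by rw [← h2]; exact mem_top _)
              rw [← zpow_add, ← zpow_add, add_comm]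
            exact Group.isSolvable_of_comm h4
          rw [← rad_eq_top_iff, hR] at h3
          have h4 : x ∈ (⊥ : Subgroup G) := by rw [h3]; exact mem_top _
          exact hx1 (mem_bot.1 h4)
        · exact hM h1
      have hxr := hsub H hHt hxH
      have hmM' : (m : G) ∈ M' := ⟨m, hm', rfl⟩
      have hM'H : M' ≤ H := le_sup_left
      have h1 : (m : G)⁻¹ * x * m * x⁻¹ ∈ radIn H := by
        have h2 := radIn_conj_mem (inv_mem (hM'H hmM')) hxr
        rw [inv_inv] at h2
        exact mul_mem h2 (inv_mem hxr)
      have h2 : (m : G)⁻¹ * x * m * x⁻¹ ∈ M' := by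
        have h3 := mul_mem (inv_mem hmM') (hM'x _ hmM')
        have e : (m : G)⁻¹ * x * m * x⁻¹ = (m : G)⁻¹ * (x * m * x⁻¹) := by group
        rwa [e]
      have h3 := radIn_inf_le hM'H ⟨h1, h2⟩
      have h4 : (radIn M).map L.subtype = radIn M' := by
        apply le_antisymm
        · refine le_radIn (map_mono (radIn_le M)) ?_ (isSolvable_map (radIn_solvable M) _)
          rintro _ ⟨g, hg, rfl⟩ _ ⟨n, hn, rfl⟩
          exact ⟨g * n * g⁻¹, radIn_conj_mem hg hn, by simp⟩
        · have h5 : radIn M' ≤ L := (radIn_le M').trans (map_subtype_le _)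
          have h6 : (radIn M').subgroupOf L ≤ radIn M := by
            refine le_radIn ?_ ?_ ?_
            · intro l hl
              obtain ⟨l', hl', h7⟩ := radIn_le M' (mem_subgroupOf.1 hl)
              rwa [← Subtype.ext h7]
            · intro g hg n hn
              rw [mem_subgroupOf] at hn ⊢
              exact radIn_conj_mem (M := M') ⟨g, hg, rfl⟩ hn
            · have := radIn_solvable M'
              exact Group.isSolvable_of_surjective (f := (subgroupOfEquivOfLe h5).symm.toMonoidHom)
                (subgroupOfEquivOfLe h5).symm.surjective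
          intro z hz
          exact ⟨⟨z, h5 hz⟩, h6 (mem_subgroupOf.2 hz), rfl⟩
      rw [← h4] at h3
      obtain ⟨w, hw, h5⟩ := h3
      have h6 : w = m⁻¹ * y m := by
        apply Subtype.ext
        rw [show ((w : L) : G) = L.subtype w from rfl, h5]
        push_cast
        rw [hyl]
        group
      rwa [← h6]
    · -- `PS`
      intro f
      have h1 := h fun i => (f i : G)
      set S : Subgroup G := closure (Set.range fun i => (f i : G) * x * (f i : G)⁻¹) with hS
      have h2 : Group.IsSolvable ↥((S.subgroupOf N).map ρ) := by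
        refine isSolvable_map ?_ _
        let f : ↥(S.subgroupOf N) →* ↥S := (N.subtype.comp (S.subgroupOf N).subtype).codRestrict S
          fun s => s.2
        refine Group.isSolvable_of_isSolvable_injective (f := f) ?_
        intro s t hst
        have h4 : ((s : N) : G) = ((t : N) : G) := congrArg (fun z : ↥S => (z : G)) hst
        exact Subtype.ext (Subtype.ext h4)
      refine isSolvable_of_le ?_ h2
      rw [closure_le]
      rintro _ ⟨i, rfl⟩
      have hi : (f i : G) * x * (f i : G)⁻¹ ∈ N := mul_mem (mul_mem (hLN (f i).2) hm) (inv_mem (hLN (f i).2))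
      refine ⟨⟨_, hi⟩, ?_, ?_⟩
      · exact subset_closure ⟨i, rfl⟩
      · have : (⟨_, hi⟩ : N) = ⟨f i, hLN (f i).2⟩ * ⟨x, hm⟩ * ⟨f i, hLN (f i).2⟩⁻¹ := rfl
        rw [this, map_mul, map_mul, map_inv, hρL]


end Cfsg.Agent.H21.SN
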