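import Mathlib
import Cfsg.Agent.H95.SN.Crit
import Cfsg.Agent.H848.SN.Alt
import Cfsg.Agent.H161.SN.RankOne
import Cfsg.Agent.H575.SN.PslA
import Cfsg.Agent.H117.SN.PslTwo
import Cfsg.Agent.H38.SN.Closed
import Cfsg.Agent.H626.SN.LThreeMain
import Cfsg.Agent.H196.SN.L4Main
import Cfsg.Agent.H29.SN.PslMain
import Cfsg.Agent.H489.SN.RowPSp
import Cfsg.Agent.H521.SN.SpFourSix
import Cfsg.Agent.H859.SN.SpMain

/-!
# S3831: rows `PSL`, `PSp` (helper21)
-/

set_option autoImplicit false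
set_option linter.unusedSectionVars false

namespace Cfsg.Agent.H21.SN.RowsLin

open Cfsg Subgroup Cfsg.Agent.H459.Rad Cfsg.Agent.H21.SN

/-- `|F| = 2` or `|F| ≥ 4` in characteristic `≠ 3` -/
theorem two_or_four {F : Type} [Field F] [Fintype F] {r : ℕ} [hr' : Fact r.Prime] (hr : r ≠ 3) [CharP F r] :
    Fintype.card F = 2 ∨ 4 ≤ Fintype.card F := by
  have h1 : 1 < Fintype.card F := Fintype.one_lt_card
  rcases (show Fintype.card F = 2 ∨ Fintype.card F = 3 ∨ 4 ≤ Fintype.card F by omega) with h | h | h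
  · exact Or.inl h
  · exfalso
    obtain ⟨k, -, hk⟩ := FiniteField.card F r
    have h2 : r ∣ 3 := by rw [← h, hk]; exact dvd_pow_self r k.ne_zero
    exact hr ((Nat.prime_dvd_prime_iff_eq hr'.out Nat.prime_three).1 h2)
  · exact Or.inr h

theorem psl (K : Type) [Group K] [Finite K] [IsSimpleGroup K] (r : ℕ) [Fact r.Prime] (hr : r ≠ 3)
    (F : Type) [Field F] [Fintype F] [CharP F r] (n : ℕ) (hn : 3 ≤ n)
    (e : Nonempty (K ≃* Matrix.ProjectiveSpecialLinearGroup (Fin n) F)) : G3 K := by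
  rcases two_or_four (F := F) hr with h | h
  · exact H117.SN.c1b h hn e
  · exact H575.SN.c1a_of (fun hP => H95.SN.noS3_of_sylow3 hP) hr hn h e

theorem psl3 (K : Type) [Group K] [Finite K] [IsSimpleGroup K] (F : Type) [Field F] [Fintype F]
    (hF : Fintype.card F = 3) (n : ℕ) (hn : 3 ≤ n)
    (e : Nonempty (K ≃* Matrix.ProjectiveSpecialLinearGroup (Fin n) F)) : R69 K := by
  rcases (show n = 3 ∨ n = 4 ∨ 5 ≤ n by omega) with rfl | rfl | h
  · obtain ⟨e⟩ := e
    exact R69.congr e (H626.SN.LThree.r69 hF)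
  · exact H196.SN.r69_psl4 hF e
  · exact H29.SN.r69_psl_ge_five hF h e

theorem psp3 (K : Type) [Group K] [Finite K] [IsSimpleGroup K] (F : Type) [Field F] [Fintype F]
    (hF : Fintype.card F = 3) (m : ℕ) (hm : 2 ≤ m) (e : Nonempty (K ≃* PSp m F)) : R69 K := by
  rcases (show m = 2 ∨ 3 ≤ m by omega) with rfl | h
  · exact H521.SN.SpFour.r69_psp_four hF e
  · exact H859.SN.SpRow.r69_psp hF h e

end Cfsg.Agent.H21.SN.RowsLin
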