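import Mathlib
import Cfsg.Agent.H281.SN.Tri6
import Cfsg.Agent.H234.SN.Omega
import Cfsg.Agent.H39.Tri3
import Cfsg.Agent.H187.SN.Four
import Cfsg.Agent.H295.SN.Two
import Cfsg.Agent.H295.SN.Row

/-!
# S3831: `PΩ⁺_8(3)` (helper21)

* `exists_conj_mem` : `Γ` of index three, `y ^ 2 ∈ Γ`: a conjugate of `y` lies in `Γ`;
* `plus3_four` : `R69 (PΩ⁺_8(3))` from the automorphisms of order nine of triality type.
-/

set_option autoImplicit false
set_option linter.unusedSectionVars false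

namespace Cfsg.Agent.H21.SN.PlusFour

open Cfsg Subgroup Cfsg.Agent.H459.Rad Cfsg.Agent.H21.SN
open Module QuadraticMap Cfsg.Agent.LieClassical.OrthCore Cfsg.Agent.LieClassical.OrthTrans
  Cfsg.Agent.LieClassical.OrthSimple Cfsg.Agent.ClassicalGeometry.OrthAut1
  Cfsg.Agent.ClassicalGeometry.OrthSemi Cfsg.Agent.H198.Classes
  Cfsg.Agent.LieClassical.QuadForms Cfsg.Agent.H198.ClassesPlus
  Cfsg.Agent.ClassicalGeometry.TrialityOct Cfsg.Agent.ClassicalGeometry.Triality
  Cfsg.Agent.H198.TriBase Cfsg.Agent.H198.TriAut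

theorem exists_conj_mem {A : Type*} [Group A] {Γ : Subgroup A} (h : Γ.index = 3) {y : A} (hy : y ^ 2 ∈ Γ) :
    ∃ a, a * y * a⁻¹ ∈ Γ := by
  classical
  by_contra hcon
  push Not at hcon
  have hfix : ∀ c : A ⧸ Γ, y • c ≠ c := by
    intro c
    induction c using QuotientGroup.induction_on with
    | H a =>
      intro hc
      have h1 : ((y * a : A) : A ⧸ Γ) = (a : A ⧸ Γ) := hc
      have h2 := QuotientGroup.eq.1 h1.symm
      refine hcon a⁻¹ ?_
      rw [inv_inv, mul_assoc]
      exact h2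
  have hcard : Nat.card (A ⧸ Γ) = 3 := h
  have : Finite (A ⧸ Γ) := Nat.finite_of_card_ne_zero (by rw [hcard]; norm_num)
  have : Fintype (A ⧸ Γ) := Fintype.ofFinite _
  rw [Nat.card_eq_fintype_card] at hcard
  set c0 : A ⧸ Γ := ((1 : A) : A ⧸ Γ) with hc0
  have h2 : y • y • c0 = c0 := by
    rw [smul_smul, ← pow_two]
    change ((y ^ 2 * 1 : A) : A ⧸ Γ) = ((1 : A) : A ⧸ Γ)
    refine (QuotientGroup.eq.2 ?_).symm
    rwa [inv_one, one_mul, mul_one]
  have h01 : y • c0 ≠ c0 := hfix c0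
  obtain ⟨c2, hc2⟩ : ∃ c2, c2 ∉ ({c0, y • c0} : Finset (A ⧸ Γ)) := by
    by_contra hall
    push Not at hall
    have h3 : (Finset.univ : Finset (A ⧸ Γ)) ⊆ {c0, y • c0} := fun c _ => hall c
    have h4 := Finset.card_le_card h3
    rw [Finset.card_univ, hcard] at h4
    have h5 := Finset.card_le_two (a := c0) (b := y • c0)
    omega
  rw [Finset.mem_insert, Finset.mem_singleton, not_or] at hc2
  have h3 : y • c2 ≠ c0 := by
    intro h4
    rw [← h2] at h4
    exact hc2.2 (smul_left_cancel y h4)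
  have h4 : y • c2 ≠ y • c0 := fun h5 => hc2.1 (smul_left_cancel y h5)
  have h5 : ({c0, y • c0, c2, y • c2} : Finset (A ⧸ Γ)).card = 4 := by
    rw [Finset.card_insert_of_notMem, Finset.card_insert_of_notMem, Finset.card_insert_of_notMem,
      Finset.card_singleton]
    · rw [Finset.mem_singleton]
      exact (hfix c2).symm
    · rw [Finset.mem_insert, Finset.mem_singleton, not_or]
      exact ⟨fun h => hc2.2 h.symm, h4.symm⟩
    · rw [Finset.mem_insert, Finset.mem_insert, Finset.mem_singleton, not_or, not_or]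
      exact ⟨h01.symm, fun h => hc2.1 h.symm, h3.symm⟩
  have h6 := Finset.card_le_univ ({c0, y • c0, c2, y • c2} : Finset (A ⧸ Γ))
  rw [h5, hcard] at h6
  omega

theorem plus3_four (h9 : ∀ (K : Type) [Group K] [Finite K] (F : Type) [Field F] [Fintype F], Fintype.card F = 3 →
      ∀ (e : K ≃* P8 F) (x : MulAut K), H459.Rad.tr e x ^ 2 ∉ (Psi (plusForm 4 F)).range → orderOf x = 9 →
        PS 2 x → False)
    (K : Type) [Group K] [Finite K] (F : Type) [Field F] [Fintype F] (hF : Fintype.card F = 3)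
    (e : Nonempty (K ≃* POmega F (quadFormPlus 4 F))) : R69 K := by
  obtain ⟨e0⟩ := e
  obtain ⟨hG, ⟨e1⟩⟩ := H39.Tri3.exists_equiv (F := F)
  set e2 : K ≃* P8 F := e0.trans e1
  intro x hx hP hR hI
  have hfin : Finite (P8 F) := Finite.of_equiv K e2.toEquiv
  have ho : orderOf (H459.Rad.tr e2 x) = 6 ∨ orderOf (H459.Rad.tr e2 x) = 9 := by
    rw [orderOf_tr]
    exact hx
  by_cases h2 : H459.Rad.tr e2 x ^ 2 ∈ (Psi (plusForm 4 F)).range
  · exact H234.SN.no69_plus_four hF (exists_conj_mem index_three h2) ho (hP.tr e2)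
  · rcases hx with hx | hx
    · exact H281.SN.r69_tri6 (by rw [Nat.card_eq_fintype_card, hF]) e2 h2 hx hP hI
    · exact h9 K F hF e2 x h2 hx hP

/-- **`PΩ⁺_8(q)`, `3 ∤ q`** -/
theorem plus_four (K : Type) [Group K] [Finite K] (r : ℕ) [hr' : Fact r.Prime] (hr : r ≠ 3)
    (F : Type) [Field F] [Fintype F] [CharP F r] (e : Nonempty (K ≃* POmega F (quadFormPlus 4 F))) : R69 K := by
  have h3 : ¬ 3 ∣ Fintype.card F := by
    obtain ⟨k, -, hk⟩ := FiniteField.card F r
    rw [hk]
    intro h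
    exact hr ((Nat.prime_dvd_prime_iff_eq Nat.prime_three hr'.out).1 (Nat.prime_three.dvd_of_dvd_pow h)).symm
  by_cases h2 : Fintype.card F = 2
  · have h2' : Fact (Nat.Prime 2) := ⟨Nat.prime_two⟩
    exact H295.SN.Two.r69_two h2 e fun x hx hP hR hxP =>
      H187.SN.false_of_linear (F := ZMod 2) (r := 2) (by norm_num) hxP hx hP hR
  · have h4 : 4 ≤ Fintype.card F := by
      have h1 : 1 < Fintype.card F := Fintype.one_lt_card
      rcases (show Fintype.card F = 3 ∨ 4 ≤ Fintype.card F by omega) with h | h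
      · exact absurd (by rw [h]) h3
      · exact h
    refine (H295.SN.g3_of_semi h4 h3 e fun e' x hx hP hR hxP => ?_).r69
    have hfin : Finite (P8 F) := Finite.of_equiv K e'.toEquiv
    exact H187.SN.false_of_linear (F := F) hr hxP (by rw [orderOf_tr]; exact hx) (hP.tr e') (hR.tr e')

end Cfsg.Agent.H21.SN.PlusFour
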